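import Mathlib
import Cfsg.Agent.H76.OC.AutP
import Cfsg.Prelude.Def_Characters

/-!
# Invariance of characters induced from parabolic subgroups under automorphisms of odd `p`-power order (helper76)

S4891, defining characteristic, tool (T3), second part.

* `indFun_aut`, `indFun_cj`, `inv_of_conj` : induced functions and automorphisms;
* `hom_inv_of_unique` : the unique homomorphism of order two;
* `PJ_hom_ext` : homomorphisms of order prime to `p` on `PJ` agreeing on `T`;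
* `indFun_PJ_inv`, `indFun_PJ_inv_unique` : **(T3)** for characters.
-/

set_option autoImplicit false
set_option linter.unusedSectionVars false

namespace Cfsg.Agent.H76.OC

open Cfsg Subgroup

section Ind

variable {G : Type*} [Group G] [Fintype G]

theorem ext_apply_mem (H : Subgroup G) (θ : H → ℂ) {x : G} (hx : x ∈ H) : extendByZero H θ x = θ ⟨x, hx⟩ :=
  Subtype.val_injective.extend_apply θ 0 (⟨x, hx⟩ : H)

theorem ext_apply_not_mem (H : Subgroup G) (θ : H → ℂ) {x : G} (hx : x ∉ H) : extendByZero H θ x = 0 :=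
  Function.extend_apply' _ _ _ (by rintro ⟨y, rfl⟩; exact hx y.2)

theorem indFun_cj (H : Subgroup G) (θ : H → ℂ) (s g : G) : indFun H θ (s * g * s⁻¹) = indFun H θ g := by
  unfold indFun
  congr 1
  rw [← Equiv.sum_comp (Equiv.mulLeft s)]
  refine Finset.sum_congr rfl fun x _ => ?_
  congr 1
  change (s * x)⁻¹ * (s * g * s⁻¹) * (s * x) = x⁻¹ * g * x
  group

theorem mem_iff_of_map {H : Subgroup G} {β : MulAut G} (hβ : H.map β.toMonoidHom = H) (x : G) : β x ∈ H ↔ x ∈ H := by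
  constructor
  · intro hz
    rw [← hβ] at hz
    obtain ⟨w, hw, hwz⟩ := hz
    exact β.injective hwz ▸ hw
  · intro hz
    rw [← hβ]
    exact ⟨x, hz, rfl⟩

theorem indFun_aut {H : Subgroup G} {β : MulAut G} (hβ : H.map β.toMonoidHom = H) {θ : H → ℂ}
    (hθ : ∀ (x : G) (hx : x ∈ H) (hx' : β x ∈ H), θ ⟨β x, hx'⟩ = θ ⟨x, hx⟩) (g : G) :
    indFun H θ (β g) = indFun H θ g := by
  unfold indFun
  congr 1
  rw [← β.toEquiv.sum_comp]
  refine Finset.sum_congr rfl fun x _ => ?_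
  have e : (β.toEquiv x)⁻¹ * β g * β.toEquiv x = β (x⁻¹ * g * x) := by
    change (β x)⁻¹ * β g * β x = _
    rw [map_mul, map_mul, map_inv]
  rw [e]
  by_cases hx : x⁻¹ * g * x ∈ H
  · have hx' : β (x⁻¹ * g * x) ∈ H := (mem_iff_of_map hβ _).2 hx
    rw [ext_apply_mem _ _ hx, ext_apply_mem _ _ hx', hθ _ hx hx']
  · rw [ext_apply_not_mem _ _ hx, ext_apply_not_mem _ _ (fun h => hx ((mem_iff_of_map hβ _).1 h))]

/-- invariance of a class function under `β`, a conjugate of `α` under an inner automorphism -/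
theorem inv_of_conj {f : G → ℂ} (hf : ∀ s g : G, f (s * g * s⁻¹) = f g) {α β : MulAut G} {s : G}
    (hβ : β = MulAut.conj s * α * (MulAut.conj s)⁻¹) (h : ∀ g, f (β g) = f g) (g : G) : f (α g) = f g := by
  have h1 := h (s * g * s⁻¹)
  have h2 : β (s * g * s⁻¹) = s * α g * s⁻¹ := by
    have h3 : (MulAut.conj s)⁻¹ (s * g * s⁻¹) = g := by
      rw [MulAut.conj_inv_apply]; group
    rw [hβ, MulAut.mul_apply, MulAut.mul_apply, h3, MulAut.conj_apply]
  rwa [h2, hf, hf] at h1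

/-- the unique homomorphism of order two is invariant -/
theorem hom_inv_of_unique {H : Subgroup G} {β : MulAut G} (hβ : H.map β.toMonoidHom = H) {lam : H →* ℂˣ}
    (h1 : lam ≠ 1) (h2 : ∀ x, lam x ^ 2 = 1)
    (huniq : ∀ μ : H →* ℂˣ, μ ≠ 1 → (∀ x, μ x ^ 2 = 1) → μ = lam)
    (x : G) (hx : x ∈ H) (hx' : β x ∈ H) : lam ⟨β x, hx'⟩ = lam ⟨x, hx⟩ := by
  let f : H →* H :=
    { toFun := fun y => ⟨β y, (mem_iff_of_map hβ _).2 y.2⟩
      map_one' := Subtype.ext (map_one β)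
      map_mul' := fun a b => Subtype.ext (map_mul β (a : G) (b : G)) }
  have hf : Function.Surjective f := by
    rintro ⟨y, hy⟩
    have hy' : β⁻¹ y ∈ H := by
      rw [← mem_iff_of_map hβ, MulAut.apply_inv_self]
      exact hy
    exact ⟨⟨β⁻¹ y, hy'⟩, Subtype.ext (MulAut.apply_inv_self G β y)⟩
  have h3 : lam.comp f = lam := by
    refine huniq _ (fun h => h1 ?_) (fun x => h2 (f x))
    ext y
    obtain ⟨z, rfl⟩ := hf y
    have := DFunLike.congr_fun h z
    rw [MonoidHom.comp_apply] at this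
    rw [this]
    rfl
  exact DFunLike.congr_fun h3 ⟨x, hx⟩

end Ind

section RGD

open CoxeterSystem Cfsg.Agent.ChevalleyStructure.CoxeterGeom Cfsg.Agent.Tits.Roots
  Cfsg.Agent.Nodes.Reps Cfsg.Agent.Nodes.BNOf Cfsg.Agent.Nodes.LeviDec Cfsg.Agent.Nodes.Bruhat
  Cfsg.Agent.Nodes.StabComb Cfsg.Agent.Nodes.OppDec

variable {I : Type*} [Fintype I] [DecidableEq I] {M : CoxeterMatrix I} {W : Type*} [Group W] [Finite W]
  {cs : CoxeterSystem M W} {A : I → I → ℤ} {h : IsCartan M A} {p : ℕ} {Y : Type*} [Group Y] {T : Subgroup Y}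
  {n : I → Y} {X : (I → ℤ) → Subgroup Y} (R : RGD cs h p T n X)

include R in
/-- homomorphisms of order prime to `p` on `PJ` agreeing on `T` are equal -/
theorem PJ_hom_ext {J : Set I} {m : ℕ} (hm : m.Coprime p) {C : Type*} [CommGroup C]
    {lam μ : ↥(PJ cs h T X J) →* C} (h1 : ∀ x, lam x ^ m = 1) (h2 : ∀ x, μ x ^ m = 1)
    (hT : ∀ (t : Y) (_ : t ∈ T) (ht' : t ∈ PJ cs h T X J), lam ⟨t, ht'⟩ = μ ⟨t, ht'⟩) : lam = μ := by
  have key : ∀ (ν : ↥(PJ cs h T X J) →* C), (∀ x, ν x ^ m = 1) → ∀ x : ↥(PJ cs h T X J),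
      (∃ k, x ^ p ^ k = 1) → ν x = 1 := by
    rintro ν hν x ⟨k, hk⟩
    have h3 : ν x ^ p ^ k = 1 := by rw [← map_pow, hk, map_one]
    have h4 : orderOf (ν x) ∣ Nat.gcd m (p ^ k) := Nat.dvd_gcd (orderOf_dvd_of_pow_eq_one (hν x))
      (orderOf_dvd_of_pow_eq_one h3)
    rw [Nat.Coprime.pow_right k hm, Nat.dvd_one, orderOf_eq_one_iff] at h4
    exact h4
  have hle : PJ cs h T X J ≤ (MonoidHom.eqLocus lam μ).map (PJ cs h T X J).subtype := by
    have hX : ∀ x, IsRoot cs h x → X x ≤ PJ cs h T X J → X x ≤ (MonoidHom.eqLocus lam μ).map (PJ cs h T X J).subtype := by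
      intro x hx hxJ g hg
      refine ⟨⟨g, hxJ hg⟩, ?_, rfl⟩
      obtain ⟨k, hk⟩ := R.pgrp' hx ⟨g, hg⟩
      have hk' : g ^ p ^ k = 1 := congrArg Subtype.val hk
      have h5 : (⟨g, hxJ hg⟩ : ↥(PJ cs h T X J)) ^ p ^ k = 1 := Subtype.ext hk'
      show lam _ = μ _
      rw [key lam h1 _ ⟨k, h5⟩, key μ h2 _ ⟨k, h5⟩]
    refine sup_le (sup_le ?_ (RGD.Sup_le fun x hx => ?_)) (RGD.Sup_le fun x hx => ?_)
    · intro t ht
      exact ⟨⟨t, LJ_le_PJ (T_le_LJ ht)⟩, hT t ht _, rfl⟩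
    · exact hX x hx.1 ((X_le_LJ hx).trans LJ_le_PJ)
    · exact hX x hx.1 ((RGD.le_Sup hx).trans VJ_le_PJ)
  ext x
  obtain ⟨y, hy, hyx⟩ := hle x.2
  have : y = x := Subtype.ext hyx
  rw [← this]
  exact hy

include R in
/-- **(T3) for characters**: a class function induced from `PJ` is invariant under a `p`-group of automorphisms if its
inducing function is invariant under the automorphisms of `p`-power order fixing `U`, `B` and all `P_K`. -/
theorem indFun_PJ_inv [Fintype Y] [Fact p.Prime] [IsSimpleGroup Y] [Nonempty I] (hp2 : p ≠ 2) (hM : Good2 M)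
    (hG : GG cs h T X = ⊤) {A : Subgroup (MulAut Y)} (hA : IsPGroup p A) (J : Set I) {θ : ↥(PJ cs h T X J) → ℂ}
    (hθ : ∀ β : MulAut Y, (∃ k, β ^ p ^ k = 1) →
      (RGD.Sup X (RGD.Pos cs h)).map β.toMonoidHom = RGD.Sup X (RGD.Pos cs h) →
      (RGD.B cs h T X).map β.toMonoidHom = RGD.B cs h T X →
      (∀ K : Set I, (PJ cs h T X K).map β.toMonoidHom = PJ cs h T X K) →
      ∀ (x : Y) (hx : x ∈ PJ cs h T X J) (hx' : β x ∈ PJ cs h T X J), θ ⟨β x, hx'⟩ = θ ⟨x, hx⟩) :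
    ∀ α ∈ A, ∀ g, indFun (PJ cs h T X J) θ (α g) = indFun (PJ cs h T X J) θ g := by
  obtain ⟨s, hs⟩ := exists_conj_fix R hp2 hM hG hA
  intro α hα
  obtain ⟨β, h1, h2, h3, h4, h5⟩ := hs α hα
  exact inv_of_conj (indFun_cj _ θ) h1 (indFun_aut (h5 J) (hθ β h2 h3 h4 h5))

include R in
/-- **(T3) for the unique character of order two of `PJ`** -/
theorem indFun_PJ_inv_unique [Fintype Y] [Fact p.Prime] [IsSimpleGroup Y] [Nonempty I] (hp2 : p ≠ 2) (hM : Good2 M)
    (hG : GG cs h T X = ⊤) {A : Subgroup (MulAut Y)} (hA : IsPGroup p A) (J : Set I)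
    {lam : ↥(PJ cs h T X J) →* ℂˣ} (h1 : lam ≠ 1) (h2 : ∀ x, lam x ^ 2 = 1)
    (huniq : ∀ μ : ↥(PJ cs h T X J) →* ℂˣ, μ ≠ 1 → (∀ x, μ x ^ 2 = 1) → μ = lam) :
    ∀ α ∈ A, ∀ g, indFun (PJ cs h T X J) (fun x => (lam x : ℂ)) (α g) =
      indFun (PJ cs h T X J) (fun x => (lam x : ℂ)) g := by
  refine indFun_PJ_inv R hp2 hM hG hA J fun β _ _ _ hβ x hx hx' => ?_
  rw [hom_inv_of_unique (hβ J) h1 h2 huniq x hx hx']

end RGD

end Cfsg.Agent.H76.OC
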